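import Cfsg.Prelude.Def_CaseTheorems
import Cfsg.Agent.Lib.PGroup.Basic
import Cfsg.Agent.Lib.PGroup.Class2

/-!
A `p`-group of `p`-rank at most 1 is cyclic for `p` odd.
-/

set_option autoImplicit false

namespace Cfsg.Agent.IsolatedP

open Subgroup
open scoped commutatorElement

theorem pRankLE_subgroup {G : Type*} [Group G] {p k : ℕ} (h : Cfsg.PRankLE p k G) (H : Subgroup G) :
    Cfsg.PRankLE p k ↥H := by
  intro A hA hpow
  have := h (A.map H.subtype) (Subgroup.map_isMulCommutative A H.subtype) (by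
    rintro _ ⟨a, ha, rfl⟩
    exact congrArg Subtype.val (hpow a ha))
  rwa [card_map_of_injective H.subtype_injective] at this

/-- In a `p`-group of rank at most 1 the elements of order dividing `p` form a subgroup of order `p`. -/
theorem card_le_of_pow_eq_one {G : Type*} [Group G] [Finite G] {p : ℕ} [Fact p.Prime]
    (hG : IsPGroup p G) (h : Cfsg.PRankLE p 1 G) (S : Subgroup G) (hS : ∀ x ∈ S, x ^ p = 1) :
    Nat.card S ≤ p := by
  rcases eq_or_ne S ⊥ with rfl | hne
  · rw [card_bot]; exact (Fact.out : p.Prime).one_lt.le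
  have hG1 : Nontrivial G := by
    obtain ⟨x, -, hx⟩ := (S.bot_or_exists_ne_one).resolve_left hne
    exact ⟨x, 1, hx⟩
  obtain ⟨z, -, hz, hzo⟩ := PGroup.exists_orderOf_eq_mem_center hG ⊤ top_ne_bot
  have key : ∀ a ∈ S, a ∈ zpowers z := by
    intro a ha
    have hcomm : Commute z a := (mem_center_iff.mp hz a).symm
    have hab : IsMulCommutative ↥(closure ({z, a} : Set G)) := isMulCommutative_closure (by
      rintro b (hb | hb) c (hc | hc) <;> rw [hb, hc] <;>
        first | rfl | exact hcomm | exact hcomm.symm)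
    have hpow : ∀ y ∈ closure ({z, a} : Set G), y ^ p = 1 := by
      intro y hy
      induction hy using closure_induction with
      | mem y hy =>
        rcases hy with hy | hy <;> rw [hy]
        · rw [← hzo]; exact pow_orderOf_eq_one z
        · exact hS _ ha
      | one => exact one_pow p
      | mul u v hu hv hup hvp =>
        have : Commute u v := congrArg Subtype.val (hab.is_comm.comm
          (⟨u, hu⟩ : closure ({z, a} : Set G)) ⟨v, hv⟩)
        rw [this.mul_pow, hup, hvp, one_mul]
      | inv u _ hu => rw [inv_pow, hu, inv_one]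
    have hle := h _ hab hpow
    rw [pow_one] at hle
    have hzle : zpowers z ≤ closure ({z, a} : Set G) := zpowers_le.mpr (subset_closure (Or.inl rfl))
    have := eq_of_le_of_card_ge hzle (by rw [Nat.card_zpowers, hzo]; exact hle)
    rw [this]
    exact subset_closure (Or.inr rfl)
  calc Nat.card S ≤ Nat.card ↥(zpowers z) := card_le_of_le key
    _ = p := by rw [Nat.card_zpowers, hzo]

universe u

theorem isCyclic_of_pRankLE_one {p : ℕ} [Fact p.Prime] (h2 : p ≠ 2) {G : Type u} [Group G] [Finite G]
    (hG : IsPGroup p G) (h : Cfsg.PRankLE p 1 G) : IsCyclic G := by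
  have aux : ∀ n : ℕ, ∀ (X : Type u) [Group X] [Finite X], Nat.card X = n → IsPGroup p X →
      Cfsg.PRankLE p 1 X → IsCyclic X := by
    intro n
    induction n using Nat.strong_induction_on with
    | _ n ih =>
    intro X _ _ hn hX hr
    by_contra hnc
    have hp : p.Prime := Fact.out
    have cyc : ∀ M : Subgroup X, M ≠ ⊤ → IsCyclic M := fun M hM => by
      have hlt : Nat.card M < n := by
        rw [← hn, ← card_top (G := X)]
        exact Set.ncard_lt_ncard (SetLike.coe_ssubset_coe.mpr hM.lt_top) (Set.toFinite _)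
      exact ih _ hlt M rfl (hX.to_subgroup M) (pRankLE_subgroup hr M)
    have exM : ∀ x : X, ∃ M : Subgroup X, IsCoatom M ∧ x ∈ M := fun x => by
      rcases eq_top_or_exists_le_coatom (zpowers x) with h' | ⟨M, hM, hle⟩
      · exact absurd ⟨⟨x, fun y => (h'.symm ▸ mem_top y : y ∈ zpowers x)⟩⟩ hnc
      · exact ⟨M, hM, hle (mem_zpowers x)⟩
    obtain ⟨M₁, hM₁, -⟩ := exM 1
    obtain ⟨y, -, hy⟩ := SetLike.exists_of_lt hM₁.1.lt_top
    obtain ⟨M₂, hM₂, hyM⟩ := exM y
    have hne : M₁ ≠ M₂ := fun e => hy (e ▸ hyM)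
    have hn₁ := PGroup.normal_of_isCoatom hX hM₁
    have hn₂ := PGroup.normal_of_isCoatom hX hM₂
    have hi₁ := PGroup.index_of_isCoatom hX hM₁
    have hi₂ := PGroup.index_of_isCoatom hX hM₂
    have hsup : M₁ ⊔ M₂ = ⊤ := hM₁.2 _ (lt_of_le_of_ne le_sup_left fun e =>
      hne ((hM₂.le_iff.mp (e.symm ▸ le_sup_right : M₂ ≤ M₁)).resolve_left hM₁.1))
    set Z := M₁ ⊓ M₂ with hZ
    have hZc : Z ≤ center X := by
      intro z hz
      rw [mem_center_iff]
      have : (⊤ : Subgroup X) ≤ centralizer ({z} : Set X) := by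
        rw [← hsup, sup_le_iff]
        have i₁ := cyc M₁ hM₁.1
        have i₂ := cyc M₂ hM₂.1
        have a₁ : IsMulCommutative ↥M₁ := inferInstance
        have a₂ : IsMulCommutative ↥M₂ := inferInstance
        constructor <;> intro m hm <;> rw [mem_centralizer_singleton_iff]
        · exact congrArg Subtype.val (a₁.is_comm.comm (⟨m, hm⟩ : M₁) ⟨z, hz.1⟩)
        · exact congrArg Subtype.val (a₂.is_comm.comm (⟨m, hm⟩ : M₂) ⟨z, hz.2⟩)
      exact fun g => mem_centralizer_singleton_iff.mp (this (mem_top g))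
    have hcl : commutator X ≤ center X := le_trans
      (le_inf (PGroup.commutator_le_of_index_eq M₁ hi₁) (PGroup.commutator_le_of_index_eq M₂ hi₂)) hZc
    have hpowZ : ∀ x : X, x ^ p ∈ Z := fun x =>
      ⟨PGroup.pow_mem_of_index_eq M₁ hi₁ x, PGroup.pow_mem_of_index_eq M₂ hi₂ x⟩
    let f := PGroup.powHom hp h2 hcl (PGroup.commutator_pow_eq_one hcl fun x => hZc (hpowZ x))
    have h1 : Nat.card f.ker ≤ p := card_le_of_pow_eq_one hX hr _ fun x hx => hx
    have h3 : Nat.card f.range ≤ Nat.card Z := card_le_of_le (by rintro _ ⟨x, rfl⟩; exact hpowZ x)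
    have h4 : Nat.card f.range * Nat.card f.ker = Nat.card X := by
      rw [← Subgroup.index_ker f]
      exact f.ker.index_mul_card
    have h5 : Z.index = p * p := by
      have hni : Z.index = Z.relIndex M₁ * M₁.index := (relIndex_mul_index inf_le_left).symm
      have : Z.relIndex M₁ = p := by
        rw [hZ, inf_relIndex_left, ← relIndex_sup_right M₁ M₂, hsup, relIndex_top_right, hi₂]
      rw [hni, this, hi₁]
    have h6 := Z.card_mul_index
    rw [h5, ← h4] at h6
    have : Nat.card Z * (p * p) ≤ Nat.card Z * p := h6.le.trans (Nat.mul_le_mul h3 h1)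
    have h7 := Nat.le_of_mul_le_mul_left this Nat.card_pos
    nlinarith [hp.two_le]
  exact aux _ G rfl hG h

end Cfsg.Agent.IsolatedP
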