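import Cfsg.Prelude.Def_IsolatedElements
import Cfsg.Prelude.Def_Transfer
import Cfsg.Agent.Lib.Transfer.Burnside
import Mathlib.NumberTheory.Multiplicity
import Mathlib.GroupTheory.Perm.Cycle.Type

/-!
Isolated elements of prime power order.
-/

set_option autoImplicit false

namespace Cfsg.Agent.IsolatedP

open Subgroup

variable {G : Type*} [Group G] {p : ℕ}

theorem isolated_subgroup {H : Subgroup G} {x : G} (hxH : x ∈ H) (hiso : Cfsg.IsIsolated x) :
    Cfsg.IsIsolated (⟨x, hxH⟩ : H) := fun g hg =>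
  Subtype.ext (hiso g (congrArg Subtype.val hg))

theorem isPGroup_zpowers {x : G} (hx : ∃ k : ℕ, orderOf x = p ^ k) :
    IsPGroup p ↥(zpowers x) := by
  obtain ⟨k, hk⟩ := hx
  exact IsPGroup.of_card (by rw [Nat.card_zpowers, hk])

theorem orderOf_conj_eq (g x : G) : orderOf (g * x * g⁻¹) = orderOf x :=
  (SemiconjBy.conj_mk g x).orderOf_eq.symm

theorem mem_centralizer_singleton_of_conj_eq {g x : G} (h : g * x * g⁻¹ = x) :
    g ∈ centralizer ({x} : Set G) := by
  rw [mem_centralizer_singleton_iff]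
  exact mul_inv_eq_iff_eq_mul.mp h

theorem conj_eq_of_mem_centralizer_singleton {g x : G} (h : g ∈ centralizer ({x} : Set G)) :
    g * x * g⁻¹ = x := by
  rw [mul_inv_eq_iff_eq_mul]
  exact mem_centralizer_singleton_iff.mp h

variable [Finite G] [Fact p.Prime] {x : G}

/-- An isolated element is centralized by every `p`-subgroup containing it. -/
theorem le_centralizer (hiso : Cfsg.IsIsolated x) {R : Subgroup G} (hR : IsPGroup p ↥R) (hxR : x ∈ R) :
    R ≤ centralizer ({x} : Set G) := by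
  have hnil : Group.IsNilpotent ↥R := hR.isNilpotent
  by_contra h
  set Q : Subgroup ↥R := (centralizer ({x} : Set G)).subgroupOf R with hQ
  have hlt : Q < normalizer (Q : Set ↥R) :=
    Group.normalizerCondition_of_isNilpotent Q (lt_top_iff_ne_top.mpr fun h' => h (subgroupOf_eq_top.mp h'))
  obtain ⟨n, hn, hnQ⟩ := SetLike.exists_of_lt hlt
  have hxQ : (⟨x, hxR⟩ : ↥R) ∈ Q := mem_centralizer_singleton_iff.mpr rfl
  have h1 := (mem_normalizer_iff.mp hn _).mp hxQ
  have h2 : (n : G) * x * (n : G)⁻¹ ∈ centralizer ({x} : Set G) := h1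
  refine hnQ (show (n : G) ∈ centralizer ({x} : Set G) from ?_)
  exact mem_centralizer_singleton_of_conj_eq (hiso _ (mem_centralizer_singleton_iff.mp h2).symm)

theorem conj_eq_of_mem_pgroup (hiso : Cfsg.IsIsolated x) {R : Subgroup G} (hR : IsPGroup p ↥R)
    (hxR : x ∈ R) {g : G} (hg : g * x * g⁻¹ ∈ R) : g * x * g⁻¹ = x :=
  hiso g (mem_centralizer_singleton_iff.mp (le_centralizer hiso hR hxR hg)).symm

theorem normalizer_le_centralizer (hiso : Cfsg.IsIsolated x) {R : Subgroup G} (hR : IsPGroup p ↥R)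
    (hxR : x ∈ R) : normalizer (R : Set G) ≤ centralizer ({x} : Set G) := fun g hg =>
  mem_centralizer_singleton_of_conj_eq
    (conj_eq_of_mem_pgroup hiso hR hxR ((mem_normalizer_iff.mp hg x).mp hxR))

theorem exists_sylow_mem {K : Subgroup G} (hx : ∃ k : ℕ, orderOf x = p ^ k) (hxK : x ∈ K) :
    ∃ P : Sylow p ↥K, (⟨x, hxK⟩ : ↥K) ∈ (P : Subgroup ↥K) := by
  obtain ⟨k, hk⟩ := hx
  obtain ⟨P, hP⟩ := (isPGroup_zpowers (p := p) (x := (⟨x, hxK⟩ : ↥K))
    ⟨k, by rw [Subgroup.orderOf_mk]; exact hk⟩).exists_le_sylow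
  exact ⟨P, hP (mem_zpowers _)⟩

/-- An isolated `p`-element has no other conjugate class in any subgroup containing it. -/
theorem exists_conj_eq (hiso : Cfsg.IsIsolated x) (hx : ∃ k : ℕ, orderOf x = p ^ k) {K : Subgroup G}
    (hxK : x ∈ K) {g : G} (hg : g * x * g⁻¹ ∈ K) :
    ∃ k ∈ K, k * g ∈ centralizer ({x} : Set G) := by
  obtain ⟨P, hP⟩ := exists_sylow_mem hx hxK
  obtain ⟨P', hP'⟩ := exists_sylow_mem (p := p) (x := g * x * g⁻¹) (by rwa [orderOf_conj_eq]) hg
  obtain ⟨k, hk⟩ := MulAction.exists_smul_eq ↥K P' P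
  refine ⟨(k : G), k.2, mem_centralizer_singleton_of_conj_eq ?_⟩
  have hR : IsPGroup p ↥((P : Subgroup ↥K).map K.subtype) := P.2.map _
  refine conj_eq_of_mem_pgroup hiso hR ⟨_, hP, rfl⟩ ?_
  refine ⟨k * ⟨g * x * g⁻¹, hg⟩ * k⁻¹, ?_, ?_⟩
  · rw [← hk, Sylow.coe_subgroup_smul]
    exact ⟨_, hP', rfl⟩
  · simp [mul_assoc]

theorem exists_sylow_ge (hx : ∃ k : ℕ, orderOf x = p ^ k) :
    ∃ P : Sylow p G, x ∈ (P : Subgroup G) := by
  obtain ⟨P, hP⟩ := (isPGroup_zpowers hx).exists_le_sylow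
  exact ⟨P, hP (mem_zpowers _)⟩

omit [Finite G] [Fact p.Prime] in
theorem mem_inf_centralizer_sylow (P : Sylow p G) (hxP : x ∈ (P : Subgroup G))
    (h : (P : Subgroup G) ≤ centralizer ({x} : Set G)) :
    x ∈ (P : Subgroup G) ⊓ centralizer ((P : Subgroup G) : Set G) :=
  ⟨hxP, fun y hy => mem_centralizer_singleton_iff.mp (h hy)⟩

/-- `⟨x⟩` is strongly closed: a conjugate of `x ^ k` in a Sylow subgroup containing `x` is `x ^ k`. -/
theorem conj_zpow_eq (hiso : Cfsg.IsIsolated x) (hx : ∃ k : ℕ, orderOf x = p ^ k) (P : Sylow p G)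
    (hxP : x ∈ (P : Subgroup G)) {y : G} (hy : y ∈ zpowers x) {g : G}
    (hg : g * y * g⁻¹ ∈ (P : Subgroup G)) : g * y * g⁻¹ = y := by
  obtain ⟨m, rfl⟩ := mem_zpowers_iff.mp hy
  set y' := g * x ^ m * g⁻¹ with hy'
  have h1 : x ∈ centralizer ({y'} : Set G) :=
    mem_centralizer_singleton_iff.mpr (mem_centralizer_singleton_iff.mp
      (le_centralizer hiso P.2 hxP hg)).symm
  have h2 : g * x * g⁻¹ ∈ centralizer ({y'} : Set G) := by
    have : Commute x (x ^ m) := Commute.self_zpow x m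
    exact mem_centralizer_singleton_iff.mpr (this.map (MulAut.conj g).toMonoidHom)
  obtain ⟨c, hc, hcg⟩ := exists_conj_eq hiso hx h1 h2
  have h3 := conj_eq_of_mem_centralizer_singleton hc
  have h4 : (c * g) * x ^ m * (c * g)⁻¹ = x ^ m := by
    have : Commute (c * g) x := mem_centralizer_singleton_iff.mp hcg
    exact mul_inv_eq_iff_eq_mul.mpr (this.zpow_right m)
  calc y' = c * y' * c⁻¹ := h3.symm
    _ = (c * g) * x ^ m * (c * g)⁻¹ := by rw [hy']; group
    _ = x ^ m := h4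

theorem isolated_quotient (hiso : Cfsg.IsIsolated x) (hx : ∃ k : ℕ, orderOf x = p ^ k)
    (N : Subgroup G) [N.Normal] : Cfsg.IsIsolated (QuotientGroup.mk x : G ⧸ N) := by
  intro gb hcomm
  obtain ⟨g, rfl⟩ := QuotientGroup.mk_surjective gb
  set xb : G ⧸ N := QuotientGroup.mk x
  set yb : G ⧸ N := (g : G ⧸ N) * xb * (g : G ⧸ N)⁻¹
  have hab : IsMulCommutative ↥(closure ({xb, yb} : Set (G ⧸ N))) :=
    Subgroup.isMulCommutative_closure (by
      rintro a (rfl | rfl) b (rfl | rfl) <;> first | rfl | exact hcomm | exact hcomm.symm)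
  have hxM : x ∈ (closure ({xb, yb} : Set (G ⧸ N))).comap (QuotientGroup.mk' N) :=
    subset_closure (Or.inl rfl)
  have hyM : g * x * g⁻¹ ∈ (closure ({xb, yb} : Set (G ⧸ N))).comap (QuotientGroup.mk' N) :=
    subset_closure (Or.inr rfl)
  obtain ⟨k, hk, hkg⟩ := exists_conj_eq hiso hx hxM hyM
  have h1 : (k : G ⧸ N) * yb * (k : G ⧸ N)⁻¹ = xb := by
    have := congrArg (QuotientGroup.mk' N) (conj_eq_of_mem_centralizer_singleton hkg)
    simp only [mul_inv_rev, map_mul, map_inv, QuotientGroup.mk'_apply] at this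
    rw [show (k : G ⧸ N) * yb * (k : G ⧸ N)⁻¹ = _ from by simp only [yb, xb, mul_assoc]; rfl]
    simpa [mul_assoc] using this
  have h2 : (k : G ⧸ N) * yb = yb * (k : G ⧸ N) :=
    congrArg Subtype.val (hab.is_comm.comm (⟨(k : G ⧸ N), hk⟩ : closure ({xb, yb} : Set (G ⧸ N)))
      ⟨yb, subset_closure (Or.inr rfl)⟩)
  rw [h2, mul_inv_cancel_right] at h1
  exact h1

omit [Finite G] in
/-- A `p'`-element normalizing a cyclic `p`-group and centralizing one of its non-identity elements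
centralizes it. -/
theorem commute_of_cyclic [Finite G] {a n z : G} (ha : ∃ k : ℕ, orderOf a = p ^ k)
    (hn : n * a * n⁻¹ ∈ zpowers a) (hz : z ∈ zpowers a) (hz1 : z ≠ 1) (hnz : n * z * n⁻¹ = z)
    (hnp : ¬ p ∣ orderOf n) : Commute n a := by
  obtain ⟨r, hr⟩ := mem_zpowers_iff.mp hn
  obtain ⟨t, rfl⟩ := mem_zpowers_iff.mp hz
  obtain ⟨m, hm⟩ := ha
  have hp : p.Prime := Fact.out
  have e1 : a ^ (r * t) = a ^ t := by
    rw [zpow_mul, hr, conj_zpow, hnz]
  have hpr : (p : ℤ) ∣ r - 1 := by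
    by_contra hnd
    have h1 : (orderOf a : ℤ) ∣ (r - 1) * t := by
      rw [orderOf_dvd_iff_zpow_eq_one, sub_mul, one_mul, zpow_sub, e1, mul_inv_cancel]
    have hcop : IsCoprime (orderOf a : ℤ) (r - 1) := by
      rw [hm, Nat.cast_pow]
      exact ((Nat.prime_iff_prime_int.mp hp).coprime_iff_not_dvd.mpr hnd).pow_left
    exact hz1 (orderOf_dvd_iff_zpow_eq_one.mp (hcop.dvd_of_dvd_mul_left h1))
  have iter : ∀ k : ℕ, n ^ k * a * (n ^ k)⁻¹ = a ^ (r ^ k) := by
    intro k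
    induction k with
    | zero => simp
    | succ k ih =>
      calc n ^ (k + 1) * a * (n ^ (k + 1))⁻¹ = n * (n ^ k * a * (n ^ k)⁻¹) * n⁻¹ := by
            rw [pow_succ']; group
        _ = n * a ^ (r ^ k) * n⁻¹ := by rw [ih]
        _ = (n * a * n⁻¹) ^ (r ^ k) := conj_zpow.symm
        _ = _ := by rw [← hr, ← zpow_mul, pow_succ']
  have h2 : (orderOf a : ℤ) ∣ r ^ (p ^ m) - 1 := by
    have h := dvd_sub_pow_of_dvd_sub (R := ℤ) (p := p) hpr m
    rw [one_pow] at h
    rw [hm, Nat.cast_pow]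
    exact (pow_dvd_pow _ (Nat.le_succ m)).trans h
  have h3 : Commute (n ^ (p ^ m)) a := by
    refine mul_inv_eq_iff_eq_mul.mp ?_
    rw [iter, ← mul_inv_eq_one]
    nth_rewrite 2 [← zpow_one a]
    rw [← zpow_neg, ← zpow_add, ← sub_eq_add_neg]
    exact orderOf_dvd_iff_zpow_eq_one.mp h2
  have hc : (orderOf n).Coprime (p ^ m) :=
    ((hp.coprime_iff_not_dvd.mpr hnp).symm).pow_right m
  obtain ⟨e, he⟩ := exists_pow_eq_self_of_coprime hc.symm
  rw [← he]
  exact h3.pow_left e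

/-- Mathlib-free form: membership from two coprime powers. -/
theorem mem_of_pow_mem_coprime {C : Subgroup G} {n : G} {u v : ℕ} (h : u.Coprime v)
    (hu : n ^ u ∈ C) (hv : n ^ v ∈ C) : n ∈ C := by
  have e := Nat.gcd_eq_gcd_ab u v
  rw [h.gcd_eq_one, Nat.cast_one] at e
  have : n = n ^ (1 : ℤ) := (zpow_one n).symm
  rw [this, e, zpow_add, zpow_mul, zpow_mul, zpow_natCast, zpow_natCast]
  exact C.mul_mem (C.zpow_mem hu _) (C.zpow_mem hv _)

theorem hasNormalPComplement_of_isolated (hiso : Cfsg.IsIsolated x) (hx1 : x ≠ 1) (P : Sylow p G)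
    (hxP : x ∈ (P : Subgroup G)) (hcyc : IsCyclic ↥(P : Subgroup G)) :
    Cfsg.HasNormalPComplement p G := by
  refine Transfer.hasNormalPComplement_of_normalizer_le_centralizer P fun n hn => ?_
  have hp : p.Prime := Fact.out
  obtain ⟨⟨a, ha⟩, hgen⟩ := hcyc.exists_generator
  have hPa : ∀ y ∈ (P : Subgroup G), y ∈ zpowers a := fun y hy => by
    obtain ⟨i, hi⟩ := mem_zpowers_iff.mp (hgen ⟨y, hy⟩)
    exact mem_zpowers_iff.mpr ⟨i, congrArg Subtype.val hi⟩
  have hPC : ∀ z : G, Commute z a → z ∈ centralizer ((P : Subgroup G) : Set G) := by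
    intro z hz y hy
    obtain ⟨i, rfl⟩ := mem_zpowers_iff.mp (hPa y hy)
    exact (hz.zpow_right i).symm
  have hapow : ∃ k : ℕ, orderOf a = p ^ k := by
    obtain ⟨k, hk⟩ := P.2.exists_card_eq
    have : orderOf a ∣ p ^ k := by
      rw [← hk, ← Subgroup.orderOf_mk a ha]
      exact orderOf_dvd_natCard _
    obtain ⟨j, -, hj⟩ := (Nat.dvd_prime_pow hp).mp this
    exact ⟨j, hj⟩
  obtain ⟨e, b, hb, hb'⟩ := Nat.exists_eq_pow_mul_and_not_dvd (orderOf_pos n).ne' p hp.ne_one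
  refine mem_of_pow_mem_coprime (u := p ^ e) (v := b) ((hp.coprime_iff_not_dvd.mpr hb).pow_left e) ?_ ?_
  · refine hPC _ (commute_of_cyclic hapow (hPa _ ((mem_normalizer_iff.mp
      (pow_mem hn _) a).mp ha)) (hPa x hxP) hx1 ?_ ?_)
    · exact conj_eq_of_mem_centralizer_singleton
        (pow_mem (normalizer_le_centralizer hiso P.2 hxP hn) _)
    · have hpe : 0 < p ^ e := Nat.pow_pos hp.pos
      rw [orderOf_pow' n hpe.ne', hb', Nat.gcd_mul_right_left, Nat.mul_div_cancel_left _ hpe]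
      exact hb
  · refine hPC _ ?_
    have hsup := IsPGroup.to_sup_of_normal_left' (p := p) P.2
      (isPGroup_zpowers (p := p) (x := n ^ b) ?_) (zpowers_le.mpr (pow_mem hn b))
    · have := P.3 hsup le_sup_left
      have hmem : n ^ b ∈ (P : Subgroup G) := this ▸ mem_sup_right (mem_zpowers _)
      obtain ⟨i, hi⟩ := mem_zpowers_iff.mp (hPa _ hmem)
      rw [← hi]
      exact Commute.zpow_self a i
    · have : (n ^ b) ^ (p ^ e) = 1 := by rw [← pow_mul, mul_comm, ← hb', pow_orderOf_eq_one]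
      obtain ⟨j, -, hj⟩ := (Nat.dvd_prime_pow hp).mp (orderOf_dvd_of_pow_eq_one this)
      exact ⟨j, hj⟩

end Cfsg.Agent.IsolatedP
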