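import Mathlib.GroupTheory.Transfer
import Mathlib.Order.Atoms

/-!
Transfer to `M / H` for a subgroup `H` of prime index in `M`.
-/

set_option autoImplicit false

namespace Cfsg.Agent.IsolatedP

open Subgroup

variable {G : Type*} [Group G]

theorem le_of_conj_mem {H M : Subgroup G} (hHM : H ≤ M) (hn : (H.subgroupOf M).Normal) :
    M ≤ normalizer (H : Set G) :=
  (normal_subgroupOf_iff_le_normalizer hHM).mp hn

theorem sup_zpowers_eq {H M : Subgroup G} (hHM : H ≤ M) (hmax : IsCoatom (H.subgroupOf M)) {y : G}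
    (hyM : y ∈ M) (hyH : y ∉ H) : H ⊔ zpowers y = M := by
  refine le_antisymm (sup_le hHM (zpowers_le.mpr hyM)) ?_
  have hlt : H.subgroupOf M < (H ⊔ zpowers y).subgroupOf M :=
    lt_of_le_of_ne (fun a ha => mem_sup_left ha) fun e =>
      hyH (show (⟨y, hyM⟩ : M) ∈ H.subgroupOf M by rw [e]; exact mem_sup_right (mem_zpowers y))
  exact subgroupOf_eq_top.mp (hmax.2 _ hlt)

theorem mem_normalizer_sup {A B : Subgroup G} {y : G} (hA : y ∈ normalizer (A : Set G))
    (hB : y ∈ normalizer (B : Set G)) : y ∈ normalizer ((A ⊔ B : Subgroup G) : Set G) := by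
  have key : ∀ z : G, z ∈ normalizer (A : Set G) → z ∈ normalizer (B : Set G) →
      ∀ a ∈ A ⊔ B, z * a * z⁻¹ ∈ A ⊔ B := by
    intro z hzA hzB a ha
    have hle : A ⊔ B ≤ (A ⊔ B).comap (MulAut.conj z).toMonoidHom :=
      sup_le (fun b hb => mem_sup_left ((mem_normalizer_iff.mp hzA b).mp hb))
        (fun b hb => mem_sup_right ((mem_normalizer_iff.mp hzB b).mp hb))
    exact hle ha
  refine mem_normalizer_iff.mpr fun a => ⟨key y hA hB a, fun ha => ?_⟩
  have := key y⁻¹ (inv_mem hA) (inv_mem hB) _ ha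
  rwa [show y⁻¹ * (y * a * y⁻¹) * y⁻¹⁻¹ = a by group] at this

theorem quotient_commutative {H : Subgroup G} [H.Normal] (hmax : IsCoatom H) (a b : G ⧸ H) :
    a * b = b * a := by
  by_cases ha : a = 1
  · rw [ha, one_mul, mul_one]
  have hlt : H < (zpowers a).comap (QuotientGroup.mk' H) := by
    obtain ⟨g, rfl⟩ := QuotientGroup.mk_surjective a
    refine lt_of_le_of_ne (fun h hh => ?_) fun e => ha ?_
    · show QuotientGroup.mk' H h ∈ zpowers _
      rw [QuotientGroup.mk'_apply, (QuotientGroup.eq_one_iff h).mpr hh]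
      exact one_mem _
    · refine (QuotientGroup.eq_one_iff g).mpr ?_
      rw [e]
      exact mem_zpowers (g : G ⧸ H)
  obtain ⟨g, rfl⟩ := QuotientGroup.mk_surjective b
  have hg : g ∈ (zpowers a).comap (QuotientGroup.mk' H) := hmax.2 _ hlt ▸ mem_top g
  obtain ⟨i, hi⟩ := mem_zpowers_iff.mp hg
  rw [← QuotientGroup.mk'_apply, ← hi]
  exact (Commute.self_zpow a i).eq

/-- If no element `g ∉ M` conjugates a power of `m ∈ M \ H` into `M \ H`, the transfer to `M / H` gives
a normal subgroup containing no `m` and containing every `h ∈ H` with the same property. -/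
theorem exists_normal_not_mem [Finite G] {H M : Subgroup G} (hHM : H ≤ M)
    (hn : (H.subgroupOf M).Normal) (hmax : IsCoatom (H.subgroupOf M)) {m : G} (hmM : m ∈ M)
    (hmH : m ∉ H) (hm : ∀ (k : ℕ) (g : G), g ∉ M → g⁻¹ * m ^ k * g ∈ M → g⁻¹ * m ^ k * g ∈ H) :
    ∃ K : Subgroup G, K.Normal ∧ m ∉ K ∧ (∀ a b : G, a * b * a⁻¹ * b⁻¹ ∈ K) ∧
      ∀ h ∈ H, (∀ (k : ℕ) (g : G), g⁻¹ * h ^ k * g ∈ M → g⁻¹ * h ^ k * g ∈ H) → h ∈ K := by
  classical
  have := hn
  let A := ↥M ⧸ H.subgroupOf M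
  let : CommGroup A := { (inferInstance : Group A) with mul_comm := quotient_commutative hmax }
  let φ : ↥M →* A := QuotientGroup.mk' (H.subgroupOf M)
  have hφ : ∀ a : ↥M, φ a = 1 ↔ (a : G) ∈ H := fun a => QuotientGroup.eq_one_iff a
  let V := MonoidHom.transfer φ
  have : Fintype (G ⧸ M) := Fintype.ofFinite _
  refine ⟨V.ker, inferInstance, fun hmK => hmH ?_, fun a b => ?_, ?_⟩
  · rw [MonoidHom.mem_ker, MonoidHom.transfer_eq_prod_quotient_orbitRel_zpowers_quot φ m] at hmK
    set q₀ : Quotient (MulAction.orbitRel (zpowers m) (G ⧸ M)) := Quotient.mk'' ((1 : G) : G ⧸ M)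
    have horb : ∀ q : Quotient (MulAction.orbitRel (zpowers m) (G ⧸ M)),
        q.out.out ∈ M → q = q₀ := fun q hq => by
      rw [← Quotient.out_eq q, ← QuotientGroup.out_eq' q.out]
      refine congrArg _ (QuotientGroup.eq.mpr ?_)
      rw [mul_one]
      exact M.inv_mem hq
    have hfix : q₀.out = ((1 : G) : G ⧸ M) := by
      have h1 : q₀.out ∈ MulAction.orbit (zpowers m) ((1 : G) : G ⧸ M) :=
        MulAction.orbitRel_apply.mp (Quotient.exact (Quotient.out_eq q₀))
      obtain ⟨⟨z, hz⟩, hzq⟩ := h1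
      rw [← hzq]
      show ((z * 1 : G) : G ⧸ M) = _
      refine QuotientGroup.eq.mpr ?_
      rw [mul_one, mul_one]
      exact M.inv_mem ((zpowers_le.mpr hmM) hz)
    have hg₀ : q₀.out.out ∈ M := by
      have h1 : ((q₀.out.out : G) : G ⧸ M) = ((1 : G) : G ⧸ M) := by rw [QuotientGroup.out_eq', hfix]
      have h2 := QuotientGroup.eq.mp h1
      rwa [mul_one, inv_mem_iff] at h2
    have hper : Function.minimalPeriod (m • ·) q₀.out = 1 := by
      rw [Function.minimalPeriod_eq_one_iff_isFixedPt, Function.IsFixedPt, hfix]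
      exact QuotientGroup.eq.mpr (by simpa using M.inv_mem hmM)
    rw [Fintype.prod_eq_single q₀] at hmK
    · rw [hφ] at hmK
      simp only [hper, pow_one] at hmK
      have hN := le_of_conj_mem hHM hn
      exact (mem_normalizer_iff''.mp (hN hg₀) m).mpr hmK
    · intro q hq
      refine (hφ _).mpr (hm _ _ (fun h => hq (horb q h)) ?_)
      exact QuotientGroup.out_conj_pow_minimalPeriod_mem M m q.out
  · rw [MonoidHom.mem_ker, map_mul, map_mul, map_mul, map_inv, map_inv, mul_inv_cancel_comm,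
      mul_inv_cancel]
  · intro h _ h1
    rw [MonoidHom.mem_ker, MonoidHom.transfer_eq_prod_quotient_orbitRel_zpowers_quot φ h]
    refine Finset.prod_eq_one fun q _ => (hφ _).mpr (h1 _ _ ?_)
    exact QuotientGroup.out_conj_pow_minimalPeriod_mem M h q.out

theorem sup_conj_normalizer {H M : Subgroup G} (hN : M ≤ normalizer (H : Set G)) (hHM : H ≤ M)
    (hmax : IsCoatom (H.subgroupOf M)) {g y : G} (hy : y ∈ M) (hyH : y ∉ H)
    (hgy : g * y * g⁻¹ ∈ M) :
    M ≤ normalizer ((H ⊔ H.map (MulAut.conj g⁻¹).toMonoidHom : Subgroup G) : Set G) := by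
  rw [← sup_zpowers_eq hHM hmax hy hyH, sup_le_iff]
  refine ⟨le_sup_left.trans le_normalizer, zpowers_le.mpr ?_⟩
  suffices h : y ∈ normalizer ((H.map (MulAut.conj g⁻¹).toMonoidHom : Subgroup G) : Set G) from
    mem_normalizer_sup (hN hy) h
  rw [mem_normalizer_iff]
  have key : ∀ a : G, a ∈ H.map (MulAut.conj g⁻¹).toMonoidHom ↔ g * a * g⁻¹ ∈ H := by
    intro a
    constructor
    · rintro ⟨b, hb, rfl⟩
      simpa [mul_assoc] using hb
    · intro ha
      exact ⟨g * a * g⁻¹, ha, by simp [mul_assoc]⟩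
  intro a
  rw [key, key]
  have e : g * (y * a * y⁻¹) * g⁻¹ = (g * y * g⁻¹) * (g * a * g⁻¹) * (g * y * g⁻¹)⁻¹ := by group
  rw [e]
  exact mem_normalizer_iff.mp (hN hgy) _

end Cfsg.Agent.IsolatedP
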