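import Cfsg.Agent.Lib.IsolatedP.Basic
import Cfsg.Agent.Lib.PCore.Basic
import Mathlib.GroupTheory.SchurZassenhaus

/-!
A minimal counterexample to the Z*_p statement.
-/

set_option autoImplicit false

namespace Cfsg.Agent.IsolatedP

open Subgroup

variable {G : Type*} [Group G] [Finite G] {p : ℕ} [Fact p.Prime] {x : G}

theorem pPrimeCore_eq_bot_of_minimal (hnz : ¬ Cfsg.InZStar p x)
    (hquot : ∀ (N : Subgroup G) [N.Normal], N ≠ ⊥ → Cfsg.InZStar p (QuotientGroup.mk x : G ⧸ N)) :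
    Cfsg.pPrimeCore p G = ⊥ := by
  by_contra h
  refine hnz fun g => ?_
  rw [← PCore.comap_pPrimeCore_quotient (Cfsg.pPrimeCore p G) PCore.coprime_card_pPrimeCore]
  exact hquot _ h (g : G ⧸ Cfsg.pPrimeCore p G)

omit [Finite G] [Fact p.Prime] in
theorem not_mem_center_of_minimal (hnz : ¬ Cfsg.InZStar p x) : x ∉ center G := fun h => hnz fun g => by
  rw [mem_center_iff.mp h g, mul_inv_cancel_right, mul_inv_cancel]
  exact one_mem _

/-- Commutators of `x` with a subgroup of a proper subgroup containing `x`. -/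
theorem commute_of_normal_minimal (hnz : ¬ Cfsg.InZStar p x)
    (hquot : ∀ (N : Subgroup G) [N.Normal], N ≠ ⊥ → Cfsg.InZStar p (QuotientGroup.mk x : G ⧸ N))
    (hmin : ∀ (H : Subgroup G) (hxH : x ∈ H), H ≠ ⊤ → Cfsg.InZStar p (⟨x, hxH⟩ : ↥H))
    {N : Subgroup G} [hN : N.Normal] (hne : N ⊔ zpowers x ≠ ⊤) {n : G} (hn : n ∈ N) : n * x = x * n := by
  set H := N ⊔ zpowers x
  have hxH : x ∈ H := mem_sup_right (mem_zpowers x)
  have hc := hmin H hxH hne ⟨n, mem_sup_left hn⟩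
  set K := (Cfsg.pPrimeCore p ↥H).map H.subtype with hK
  have hcK : n * x * n⁻¹ * x⁻¹ ∈ K := ⟨_, hc, rfl⟩
  have hcN : n * x * n⁻¹ * x⁻¹ ∈ N := by
    rw [mul_assoc, mul_assoc, ← mul_assoc x]
    exact N.mul_mem hn (hN.conj_mem _ (N.inv_mem hn) x)
  have hKn : ((K ⊓ N).subgroupOf N).Normal := by
    refine ⟨fun a ha b => ?_⟩
    refine ⟨?_, (b * a * b⁻¹).2⟩
    obtain ⟨a', ha', he⟩ := ha.1
    refine ⟨⟨(b : G), mem_sup_left b.2⟩ * a' * ⟨(b : G), mem_sup_left b.2⟩⁻¹,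
      ((inferInstance : (Cfsg.pPrimeCore p ↥H).Normal)).conj_mem _ ha' _, ?_⟩
    show (b : G) * (a' : G) * (b : G)⁻¹ = (b : G) * (a : G) * (b : G)⁻¹
    rw [show (a' : G) = (a : G) from he]
  have hcop : (Nat.card ↥((K ⊓ N).subgroupOf N)).Coprime p := by
    rw [Nat.card_congr (subgroupOfEquivOfLe inf_le_right).toEquiv]
    refine Nat.Coprime.coprime_dvd_left (card_dvd_of_le inf_le_left) ?_
    rw [hK, card_map_of_injective H.subtype_injective]
    exact PCore.coprime_card_pPrimeCore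
  have h1 := PCore.le_pPrimeCore (hN := hKn) hcop
  rw [PCore.pPrimeCore_eq_bot_of_normal N (pPrimeCore_eq_bot_of_minimal hnz hquot), le_bot_iff] at h1
  have h2 : (⟨_, hcN⟩ : N) ∈ (K ⊓ N).subgroupOf N := ⟨hcK, hcN⟩
  rw [h1, mem_bot] at h2
  have h3 : n * x * n⁻¹ * x⁻¹ = 1 := congrArg Subtype.val h2
  rwa [mul_inv_eq_one, mul_inv_eq_iff_eq_mul] at h3

theorem eq_top_of_mem_normal (hx : orderOf x = p) (hiso : Cfsg.IsIsolated x)
    (hnz : ¬ Cfsg.InZStar p x)
    (hquot : ∀ (N : Subgroup G) [N.Normal], N ≠ ⊥ → Cfsg.InZStar p (QuotientGroup.mk x : G ⧸ N))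
    (hmin : ∀ (H : Subgroup G) (hxH : x ∈ H), H ≠ ⊤ → Cfsg.InZStar p (⟨x, hxH⟩ : ↥H))
    {M : Subgroup G} [hM : M.Normal] (hxM : x ∈ M) : M = ⊤ := by
  by_contra h
  have hsup : M ⊔ zpowers x = M := sup_eq_left.mpr (zpowers_le.mpr hxM)
  refine not_mem_center_of_minimal hnz (mem_center_iff.mpr fun g => ?_)
  obtain ⟨k, hk, hkg⟩ := exists_conj_eq hiso ⟨1, by rw [hx, pow_one]⟩ hxM (hM.conj_mem x hxM g)
  have hkx : Commute k x := commute_of_normal_minimal hnz hquot hmin (by rw [hsup]; exact h) hk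
  have h2 : Commute (k * g) x := mem_centralizer_singleton_iff.mp hkg
  have := hkx.inv_left.mul_left h2
  rwa [inv_mul_cancel_left] at this

theorem normal_le_center_or_sup_eq_top (hx : orderOf x = p) (hiso : Cfsg.IsIsolated x)
    (hnz : ¬ Cfsg.InZStar p x)
    (hquot : ∀ (N : Subgroup G) [N.Normal], N ≠ ⊥ → Cfsg.InZStar p (QuotientGroup.mk x : G ⧸ N))
    (hmin : ∀ (H : Subgroup G) (hxH : x ∈ H), H ≠ ⊤ → Cfsg.InZStar p (⟨x, hxH⟩ : ↥H))
    (N : Subgroup G) [hN : N.Normal] : N ≤ center G ∨ N ⊔ zpowers x = ⊤ := by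
  refine or_iff_not_imp_right.mpr fun h => ?_
  have hxC : x ∈ centralizer (N : Set G) := fun n hn => commute_of_normal_minimal hnz hquot hmin h hn
  have : (centralizer (N : Set G)).Normal := inferInstance
  have htop := eq_top_of_mem_normal hx hiso hnz hquot hmin hxC
  intro n hn
  exact mem_center_iff.mpr fun g => ((htop ▸ mem_top g : g ∈ centralizer (N : Set G)) n hn).symm

theorem center_eq_bot_of_minimal (hx : orderOf x = p) (hiso : Cfsg.IsIsolated x)
    (hnz : ¬ Cfsg.InZStar p x)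
    (hquot : ∀ (N : Subgroup G) [N.Normal], N ≠ ⊥ → Cfsg.InZStar p (QuotientGroup.mk x : G ⧸ N)) :
    center G = ⊥ := by
  by_contra hne
  have hp : p.Prime := Fact.out
  have hcore := pPrimeCore_eq_bot_of_minimal hnz hquot
  set Z := center G with hZ
  have hZp : IsPGroup p ↥Z := by
    intro z
    obtain ⟨e, b, hb, hb'⟩ := Nat.exists_eq_pow_mul_and_not_dvd (orderOf_pos z).ne' p hp.ne_one
    refine ⟨e, Subtype.ext ?_⟩
    set w := (z : G) ^ (p ^ e)
    have hwn : (zpowers w).Normal := ⟨fun a ha g => by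
      have hac : a ∈ center G := (zpowers_le.mpr (pow_mem z.2 _) : zpowers w ≤ center G) ha
      rw [mem_center_iff.mp hac g, mul_inv_cancel_right]
      exact ha⟩
    have hwc : (Nat.card ↥(zpowers w)).Coprime p := by
      rw [Nat.card_zpowers]
      refine Nat.Coprime.coprime_dvd_left ?_ ((hp.coprime_iff_not_dvd.mpr hb).symm)
      refine orderOf_dvd_of_pow_eq_one ?_
      rw [← pow_mul, ← hb', ← orderOf_coe, pow_orderOf_eq_one]
    have := PCore.le_pPrimeCore (hN := hwn) hwc (mem_zpowers w)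
    rw [hcore, mem_bot] at this
    exact this
  set K := (Cfsg.pPrimeCore p (G ⧸ Z)).comap (QuotientGroup.mk' Z) with hK
  have hZK : Z ≤ K := fun z hz => by
    show QuotientGroup.mk' Z z ∈ Cfsg.pPrimeCore p (G ⧸ Z)
    rw [QuotientGroup.mk'_apply, (QuotientGroup.eq_one_iff z).mpr hz]
    exact one_mem _
  have hidx : ((Z.subgroupOf K).index).Coprime p := by
    have h1 : Z.relIndex K = Nat.card ↥(Cfsg.pPrimeCore p (G ⧸ Z)) := by
      conv_lhs => rw [← QuotientGroup.ker_mk' Z]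
      rw [← MonoidHom.comap_bot, hK, relIndex_comap,
        map_comap_eq_self_of_surjective (QuotientGroup.mk'_surjective Z), relIndex_bot_left]
    show (Z.relIndex K).Coprime p
    rw [h1]
    exact PCore.coprime_card_pPrimeCore
  have hcop : (Nat.card ↥(Z.subgroupOf K)).Coprime (Z.subgroupOf K).index := by
    rw [Nat.card_congr (subgroupOfEquivOfLe hZK).toEquiv]
    obtain ⟨k, hk⟩ := hZp.exists_card_eq
    rw [hk]
    exact hidx.symm.pow_left k
  obtain ⟨C, hC⟩ := exists_right_complement'_of_coprime hcop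
  have hCcard : (Nat.card ↥C).Coprime p := by rw [← hC.symm.index_eq_card]; exact hidx
  have hKn : K.Normal := inferInstance
  have mem_C : ∀ c : ↥K, (orderOf c).Coprime p → c ∈ C := by
    intro c hc
    obtain ⟨⟨⟨z, hz⟩, ⟨d, hd⟩⟩, rfl⟩ := hC.surjective c
    have hzd : Commute z d := Subtype.ext (mem_center_iff.mp hz (d : G)).symm
    set o := orderOf (z * d) * Nat.card ↥C
    have h1 : (z * d) ^ o = 1 := orderOf_dvd_iff_pow_eq_one.mp (dvd_mul_right _ _)
    have h2 : d ^ o = 1 := orderOf_dvd_iff_pow_eq_one.mp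
      ((Subgroup.orderOf_dvd_natCard C hd).trans (dvd_mul_left _ _))
    rw [hzd.mul_pow, h2, mul_one] at h1
    obtain ⟨k, hk⟩ := hZp ⟨(z : G), hz⟩
    have h3 : z ^ (p ^ k) = 1 := Subtype.ext (by simpa using congrArg Subtype.val hk)
    have : z = 1 := by
      rw [← orderOf_eq_one_iff]
      exact Nat.eq_one_of_dvd_coprimes ((hc.mul_left hCcard).pow_right k)
        (orderOf_dvd_of_pow_eq_one h1) (orderOf_dvd_of_pow_eq_one h3)
    show z * d ∈ C
    rw [this, one_mul]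
    exact hd
  have hCn : (C.map K.subtype).Normal := ⟨by
    rintro _ ⟨c, hc, rfl⟩ g
    refine ⟨⟨g * (c : G) * g⁻¹, hKn.conj_mem _ c.2 g⟩, mem_C _ ?_, rfl⟩
    rw [← orderOf_coe]
    show (orderOf (g * (c : G) * g⁻¹)).Coprime p
    rw [orderOf_conj_eq, orderOf_coe]
    exact Nat.Coprime.coprime_dvd_left (Subgroup.orderOf_dvd_natCard C hc) hCcard⟩
  have hCbot := PCore.le_pPrimeCore (hN := hCn)
    (by rw [card_map_of_injective K.subtype_injective]; exact hCcard)
  rw [hcore, le_bot_iff, map_eq_bot_iff_of_injective _ K.subtype_injective] at hCbot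
  refine not_mem_center_of_minimal hnz (mem_center_iff.mpr fun g => ?_)
  have hgK : g * x * g⁻¹ * x⁻¹ ∈ K := hquot Z hne (g : G ⧸ Z)
  obtain ⟨⟨⟨z, hz⟩, ⟨d, hd⟩⟩, hzd⟩ := hC.surjective ⟨_, hgK⟩
  have hd1 : d ∈ (⊥ : Subgroup ↥K) := hCbot ▸ hd
  rw [mem_bot] at hd1
  subst hd1
  have hgZ : g * x * g⁻¹ * x⁻¹ ∈ Z := by
    have := congrArg Subtype.val hzd
    simp only [mul_one] at this
    rw [← this]; exact hz
  have hcomm : Commute x (g * x * g⁻¹) := by
    have h1 : Commute x (g * x * g⁻¹ * x⁻¹ * x) :=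
      (show Commute x (g * x * g⁻¹ * x⁻¹) from mem_center_iff.mp hgZ x).mul_right (Commute.refl x)
    rwa [inv_mul_cancel_right] at h1
  exact mul_inv_eq_iff_eq_mul.mp (hiso g hcomm)

end Cfsg.Agent.IsolatedP
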